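import Cfsg.Prelude.Def_Sporadic_a

/-!
Double counting in a Steiner system with parameters `(t, k)` on `v` points: intersection numbers of
a block with the others, and the consequences for S(5,8,24), S(4,7,23), S(3,6,22) and S(5,6,12).
-/

set_option autoImplicit false

namespace Cfsg.Agent.Steiner

open Finset

variable {α : Type*} [Fintype α] [DecidableEq α] {t k : ℕ} {B : Set (Finset α)}

/-- The blocks as a finite set. -/
noncomputable def blocksF (B : Set (Finset α)) : Finset (Finset α) := (Set.toFinite B).toFinset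

omit [DecidableEq α] in
theorem mem_blocksF {c : Finset α} : c ∈ blocksF B ↔ c ∈ B := Set.Finite.mem_toFinset _

omit [DecidableEq α] in
theorem card_blocksF : (blocksF B).card = B.ncard :=
  (Set.ncard_eq_toFinset_card _ _).symm

/-- Every `t`-subset of `s` lies in exactly one block. -/
theorem sum_choose_inter_top (hB : Cfsg.IsSteinerSystem t k B) (s : Finset α) :
    ∑ c ∈ blocksF B, (c ∩ s).card.choose t = s.card.choose t := by
  simp only [← card_powersetCard]
  rw [← card_biUnion]
  · congr 1
    ext T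
    simp only [mem_biUnion, mem_powersetCard, mem_blocksF, subset_inter_iff]
    constructor
    · rintro ⟨c, -, ⟨-, hTs⟩, hT⟩; exact ⟨hTs, hT⟩
    · rintro ⟨hTs, hT⟩
      obtain ⟨c, ⟨hc, hTc⟩, -⟩ := hB.2 T hT
      exact ⟨c, hc, ⟨hTc, hTs⟩, hT⟩
  · intro c hc c' hc' hne
    rw [Function.onFun, disjoint_left]
    intro T hT hT'
    simp only [mem_powersetCard, subset_inter_iff] at hT hT'
    exact hne ((hB.2 T hT.2).unique ⟨mem_blocksF.1 hc, hT.1.1⟩ ⟨mem_blocksF.1 hc', hT'.1.1⟩)

/-- The number of blocks through an `i`-set, `i ≤ t`. -/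
theorem card_through (hB : Cfsg.IsSteinerSystem t k B) (S : Finset α) (hS : S.card ≤ t) :
    ((blocksF B).filter fun c => S ⊆ c).card * (k - S.card).choose (t - S.card) =
      (Fintype.card α - S.card).choose (t - S.card) := by
  have hU : (univ \ S).card = Fintype.card α - S.card := by
    rw [card_sdiff_of_subset (subset_univ _), card_univ]
  rw [← hU, ← card_powersetCard]
  rw [← smul_eq_mul, ← sum_const]
  calc ∑ c ∈ (blocksF B).filter (fun c => S ⊆ c), (k - S.card).choose (t - S.card)
      = ∑ c ∈ (blocksF B).filter (fun c => S ⊆ c), ((c \ S).powersetCard (t - S.card)).card := by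
        refine sum_congr rfl fun c hc => ?_
        rw [mem_filter, mem_blocksF] at hc
        rw [card_powersetCard, card_sdiff_of_subset hc.2, hB.1 c hc.1]
    _ = _ := by
        rw [← card_biUnion]
        · congr 1
          ext T
          simp only [mem_biUnion, mem_filter, mem_powersetCard, mem_blocksF, subset_sdiff]
          constructor
          · rintro ⟨c, -, ⟨-, hd⟩, hT⟩; exact ⟨⟨subset_univ _, hd⟩, hT⟩
          · rintro ⟨⟨-, hd⟩, hT⟩
            obtain ⟨c, ⟨hc, hsub⟩, -⟩ := hB.2 (T ∪ S) (by rw [card_union_of_disjoint hd, hT]; omega)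
            exact ⟨c, ⟨hc, (union_subset_iff.1 hsub).2⟩, ⟨(union_subset_iff.1 hsub).1, hd⟩, hT⟩
        · intro c hc c' hc' hne
          rw [Function.onFun, disjoint_left]
          intro T hT hT'
          simp only [mem_powersetCard, subset_sdiff] at hT hT'
          simp only [coe_filter, Set.mem_ofPred_eq, mem_blocksF] at hc hc'
          have hcard : (T ∪ S).card = t := by rw [card_union_of_disjoint hT.1.2, hT.2]; omega
          exact hne ((hB.2 _ hcard).unique ⟨hc.1, union_subset hT.1.1 hc.2⟩
            ⟨hc'.1, union_subset hT'.1.1 hc'.2⟩)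

/-- `∑ C(|c ∩ s|, i)` over the blocks, `i ≤ t`. -/
theorem sum_choose_inter (hB : Cfsg.IsSteinerSystem t k B) (s : Finset α) {i : ℕ} (hi : i ≤ t) :
    (∑ c ∈ blocksF B, (c ∩ s).card.choose i) * (k - i).choose (t - i) =
      s.card.choose i * (Fintype.card α - i).choose (t - i) := by
  have h1 : ∀ c : Finset α, (c ∩ s).card.choose i =
      ∑ S ∈ s.powersetCard i, if S ⊆ c then 1 else 0 := by
    intro c
    rw [← card_filter, ← card_powersetCard]
    congr 1
    ext S
    simp only [mem_filter, mem_powersetCard, subset_inter_iff]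
    tauto
  simp only [h1]
  rw [sum_comm, sum_mul, ← card_powersetCard i s, ← smul_eq_mul, ← sum_const]
  refine sum_congr rfl fun S hS => ?_
  rw [mem_powersetCard] at hS
  rw [← card_filter, ← hS.2]
  exact card_through hB S (hS.2 ▸ hi)

/-- The number of blocks meeting `s` in `j` points. -/
noncomputable def interNum (B : Set (Finset α)) (s : Finset α) (j : ℕ) : ℕ :=
  ((blocksF B).filter fun c => (c ∩ s).card = j).card

theorem sum_inter_eq (hB : Cfsg.IsSteinerSystem t k B) (s : Finset α) (f : ℕ → ℕ) :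
    ∑ c ∈ blocksF B, f (c ∩ s).card = ∑ j ∈ range (k + 1), interNum B s j * f j := by
  rw [← sum_fiberwise_of_maps_to (g := fun c => (c ∩ s).card) (t := range (k + 1)) (fun c hc =>
    mem_range.2 (Nat.lt_succ_of_le
      (le_of_le_of_eq (card_le_card inter_subset_left) (hB.1 c (mem_blocksF.1 hc)))))]
  refine sum_congr rfl fun j _ => ?_
  rw [interNum, ← smul_eq_mul, ← sum_const]
  exact sum_congr rfl fun c hc => by rw [(mem_filter.1 hc).2]

theorem interNum_eq_ncard (s : Finset α) (j : ℕ) :
    interNum B s j = {c | c ∈ B ∧ (c ∩ s).card = j}.ncard := by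
  rw [interNum, ← Set.ncard_coe_finset]
  congr 1
  ext c
  simp [mem_blocksF]

/-- Intersection equations for a set `s`. -/
theorem interNum_eq (hB : Cfsg.IsSteinerSystem t k B) (s : Finset α) {i : ℕ} (hi : i ≤ t) :
    (∑ j ∈ range (k + 1), interNum B s j * j.choose i) * (k - i).choose (t - i) =
      s.card.choose i * (Fintype.card α - i).choose (t - i) := by
  rw [← sum_inter_eq hB s (fun j => j.choose i)]
  exact sum_choose_inter hB s hi

theorem interNum_ne_zero {b c : Finset α} (hc : c ∈ B) : interNum B b (c ∩ b).card ≠ 0 :=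
  Finset.card_ne_zero_of_mem (mem_filter.2 ⟨mem_blocksF.2 hc, rfl⟩)

theorem interNum_self_ne_zero (hB : Cfsg.IsSteinerSystem t k B) {b : Finset α} (hb : b ∈ B) :
    interNum B b k ≠ 0 := by
  have := interNum_ne_zero (b := b) hb
  rwa [inter_self, hB.1 b hb] at this

omit [Fintype α] in
theorem inter_lt (hB : Cfsg.IsSteinerSystem t k B) {b c : Finset α} (hb : b ∈ B) (hc : c ∈ B)
    (hbc : b ≠ c) : (c ∩ b).card < k := by
  have hle : (c ∩ b).card ≤ k := le_of_le_of_eq (card_le_card inter_subset_left) (hB.1 c hc)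
  refine lt_of_le_of_ne hle fun h => hbc ?_
  have h1 : c ∩ b = c := eq_of_subset_of_card_le inter_subset_left (by rw [h, hB.1 c hc])
  exact (eq_of_subset_of_card_le (h1 ▸ inter_subset_right) (by rw [hB.1 b hb, hB.1 c hc])).symm

/-- In an S(5,8,24) a block meets the others in 0, 2 or 4 points (30, 448, 280 of them). -/
theorem S5824_interNum (hα : Fintype.card α = 24) (hB : Cfsg.IsSteinerSystem 5 8 B)
    {b : Finset α} (hb : b ∈ B) :
    interNum B b 0 = 30 ∧ interNum B b 1 = 0 ∧ interNum B b 2 = 448 ∧ interNum B b 3 = 0 ∧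
      interNum B b 4 = 280 ∧ interNum B b 5 = 0 ∧ interNum B b 6 = 0 ∧ interNum B b 7 = 0 ∧
      interNum B b 8 = 1 := by
  have h5 := interNum_eq hB b (i := 5) le_rfl
  have h4 := interNum_eq hB b (i := 4) (by norm_num)
  have h3 := interNum_eq hB b (i := 3) (by norm_num)
  have h2 := interNum_eq hB b (i := 2) (by norm_num)
  have h1 := interNum_eq hB b (i := 1) (by norm_num)
  have h0 := interNum_eq hB b (i := 0) (by norm_num)
  have hk := interNum_self_ne_zero hB hb
  rw [hα, hB.1 b hb] at h5 h4 h3 h2 h1 h0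
  norm_num [Finset.sum_range_succ, Nat.choose] at h5 h4 h3 h2 h1 h0
  omega

theorem S5824_inter (hα : Fintype.card α = 24) (hB : Cfsg.IsSteinerSystem 5 8 B)
    {b c : Finset α} (hb : b ∈ B) (hc : c ∈ B) (hbc : b ≠ c) :
    (b ∩ c).card = 0 ∨ (b ∩ c).card = 2 ∨ (b ∩ c).card = 4 := by
  rw [inter_comm]
  have h := S5824_interNum hα hB hb
  have hlt := inter_lt hB hb hc hbc
  have hne := interNum_ne_zero (b := b) hc
  generalize (c ∩ b).card = j at hlt hne ⊢
  interval_cases j <;> simp_all

theorem S5824_symmDiff (hα : Fintype.card α = 24) (hB : Cfsg.IsSteinerSystem 5 8 B)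
    {b c : Finset α} (hb : b ∈ B) (hc : c ∈ B) (h4 : (b ∩ c).card = 4) : symmDiff b c ∈ B := by
  set d := symmDiff b c with hd
  have hcard : ∀ s u : Finset α, 2 * (s ∩ u).card + (symmDiff s u).card = s.card + u.card := by
    intro s u
    have h1 := card_sdiff_add_card_inter s u
    have h2 := card_sdiff_add_card_inter u s
    rw [inter_comm u s] at h2
    rw [symmDiff_def, sup_eq_union, card_union_of_disjoint disjoint_sdiff_sdiff]
    omega
  have hd8 : d.card = 8 := by
    have := hcard b c
    rw [h4, hB.1 b hb, hB.1 c hc, ← hd] at this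
    omega
  have heven : ∀ f ∈ B, Even (f ∩ d).card := by
    intro f hf
    have := hcard (f ∩ b) (f ∩ c)
    have hdist : symmDiff (f ∩ b) (f ∩ c) = f ∩ d := by
      ext x; simp only [hd, mem_symmDiff, mem_inter]; tauto
    rw [hdist] at this
    have hev : ∀ g ∈ B, Even (f ∩ g).card := by
      intro g hg
      rcases eq_or_ne f g with rfl | hne
      · rw [inter_self, hB.1 f hf]; exact ⟨4, rfl⟩
      · rcases S5824_inter hα hB hf hg hne with h | h | h <;> rw [h]
        exacts [⟨0, rfl⟩, ⟨1, rfl⟩, ⟨2, rfl⟩]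
    obtain ⟨x, hx⟩ := hev b hb
    obtain ⟨y, hy⟩ := hev c hc
    rw [Nat.even_iff]
    omega
  by_contra hdB
  have hzero : ∀ j, (j = 5 ∨ j = 7 ∨ j = 8) → interNum B d j = 0 := by
    intro j hj
    rw [interNum, card_eq_zero, filter_eq_empty_iff]
    intro f hf hfd
    rw [mem_blocksF] at hf
    rcases hj with rfl | rfl | rfl
    · exact absurd (hfd ▸ heven f hf) (by decide)
    · exact absurd (hfd ▸ heven f hf) (by decide)
    · apply hdB
      have h1 : f ∩ d = f := eq_of_subset_of_card_le inter_subset_left (by rw [hfd, hB.1 f hf])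
      have h2 : f = d := eq_of_subset_of_card_le (h1 ▸ inter_subset_right) (by rw [hd8, hB.1 f hf])
      rwa [← h2]
  have h5 := interNum_eq hB d (i := 5) le_rfl
  rw [hd8] at h5
  norm_num [Finset.sum_range_succ, Nat.choose, hzero] at h5
  omega

theorem S4723_inter (hα : Fintype.card α = 23) (hB : Cfsg.IsSteinerSystem 4 7 B)
    {b c : Finset α} (hb : b ∈ B) (hc : c ∈ B) (hbc : b ≠ c) :
    (b ∩ c).card = 1 ∨ (b ∩ c).card = 3 := by
  rw [inter_comm]
  have h4 := interNum_eq hB b (i := 4) le_rfl
  have h3 := interNum_eq hB b (i := 3) (by norm_num)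
  have h2 := interNum_eq hB b (i := 2) (by norm_num)
  have h1 := interNum_eq hB b (i := 1) (by norm_num)
  have h0 := interNum_eq hB b (i := 0) (by norm_num)
  have hk := interNum_self_ne_zero hB hb
  rw [hα, hB.1 b hb] at h4 h3 h2 h1 h0
  norm_num [Finset.sum_range_succ, Nat.choose] at h4 h3 h2 h1 h0
  have hlt := inter_lt hB hb hc hbc
  have hne := interNum_ne_zero (b := b) hc
  generalize (c ∩ b).card = j at hlt hne ⊢
  interval_cases j <;> omega

theorem S3622_inter (hα : Fintype.card α = 22) (hB : Cfsg.IsSteinerSystem 3 6 B)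
    {b c : Finset α} (hb : b ∈ B) (hc : c ∈ B) (hbc : b ≠ c) :
    (b ∩ c).card = 0 ∨ (b ∩ c).card = 2 := by
  rw [inter_comm]
  have h3 := interNum_eq hB b (i := 3) le_rfl
  have h2 := interNum_eq hB b (i := 2) (by norm_num)
  have h1 := interNum_eq hB b (i := 1) (by norm_num)
  have h0 := interNum_eq hB b (i := 0) (by norm_num)
  have hk := interNum_self_ne_zero hB hb
  rw [hα, hB.1 b hb] at h3 h2 h1 h0
  norm_num [Finset.sum_range_succ, Nat.choose] at h3 h2 h1 h0
  have hlt := inter_lt hB hb hc hbc
  have hne := interNum_ne_zero (b := b) hc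
  generalize (c ∩ b).card = j at hlt hne ⊢
  interval_cases j <;> omega

theorem S5612_compl (hα : Fintype.card α = 12) (hB : Cfsg.IsSteinerSystem 5 6 B)
    {b : Finset α} (hb : b ∈ B) : bᶜ ∈ B := by
  have h5 := interNum_eq hB b (i := 5) le_rfl
  have h4 := interNum_eq hB b (i := 4) (by norm_num)
  have h3 := interNum_eq hB b (i := 3) (by norm_num)
  have h2 := interNum_eq hB b (i := 2) (by norm_num)
  have h1 := interNum_eq hB b (i := 1) (by norm_num)
  have h0 := interNum_eq hB b (i := 0) (by norm_num)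
  have hk := interNum_self_ne_zero hB hb
  rw [hα, hB.1 b hb] at h5 h4 h3 h2 h1 h0
  norm_num [Finset.sum_range_succ, Nat.choose] at h5 h4 h3 h2 h1 h0
  have hne : interNum B b 0 ≠ 0 := by omega
  obtain ⟨c, hc⟩ := card_ne_zero.1 hne
  rw [mem_filter, mem_blocksF, card_eq_zero] at hc
  have hcb : c = bᶜ := by
    refine eq_of_subset_of_card_le (fun x hx => mem_compl.2 fun hxb => ?_) ?_
    · exact notMem_empty x (hc.2 ▸ mem_inter.2 ⟨hx, hxb⟩)
    · rw [card_compl, hα, hB.1 b hb, hB.1 c hc.1]
  exact hcb ▸ hc.1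

end Cfsg.Agent.Steiner
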