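import Cfsg.Agent.Lib.Steiner.PlaneFour

/-!
Any S(2, 5, 21) is the plane built on a hyperoval from the synthemes and totals of six letters.
-/

set_option autoImplicit false

namespace Cfsg.Agent.PlaneFour

open Finset

/-- The fifteen synthemes on six letters, as fixed-point-free involutions. -/
def syntheme : Fin 15 → Fin 6 → Fin 6 :=
  ![![1, 0, 3, 2, 5, 4], ![1, 0, 4, 5, 2, 3], ![1, 0, 5, 4, 3, 2],
    ![2, 3, 0, 1, 5, 4], ![2, 4, 0, 5, 1, 3], ![2, 5, 0, 4, 3, 1],
    ![3, 2, 1, 0, 5, 4], ![3, 4, 5, 0, 1, 2], ![3, 5, 4, 0, 2, 1],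
    ![4, 2, 1, 5, 0, 3], ![4, 3, 5, 1, 0, 2], ![4, 5, 3, 2, 0, 1],
    ![5, 2, 1, 4, 3, 0], ![5, 3, 4, 1, 2, 0], ![5, 4, 3, 2, 1, 0]]

theorem syntheme_ne : ∀ k i, syntheme k i ≠ i := by decide

theorem syntheme_invol : ∀ k i, syntheme k (syntheme k i) = i := by decide

theorem syntheme_injective : Function.Injective syntheme := by
  unfold Function.Injective; decide

/-- Two synthemes with no common duad. -/
def Apart (j k : Fin 15) : Prop := ∀ a, syntheme j a ≠ syntheme k a

instance decidableApart : DecidableRel Apart := fun _ _ => Fintype.decidableForallFintype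

/-- The synthemes apart from both `j` and `k` and from two others such. -/
def thirds (j k : Fin 15) : Finset (Fin 15) :=
  (univ.filter fun l => Apart j l ∧ Apart k l).filter fun l =>
    2 ≤ ((univ.filter fun m => Apart j m ∧ Apart k m).filter (Apart l)).card

theorem apart_common : ∀ j k, Apart j k → (thirds j k).card ≤ 3 := by decide

theorem syntheme_prescribe : ∀ a0 : Fin 6, a0 ≠ 0 → ∀ c, c ≠ 0 → c ≠ a0 →
    ∀ b, b ≠ 0 → b ≠ a0 → b ≠ c → ∃ k, syntheme k 0 = a0 ∧ syntheme k c = b := by decide

set_option synthInstance.maxSize 4096 in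
theorem syntheme_last : ∀ k c, c ≠ 0 → c ≠ syntheme k 0 → ∀ d, d ≠ 0 → d ≠ syntheme k 0 → d ≠ c →
    d ≠ syntheme k c → ∀ y, y ≠ d → y ≠ 0 → y ≠ syntheme k 0 → y ≠ c → y ≠ syntheme k c →
    syntheme k d = y := by decide

theorem exists_syntheme (f : Fin 6 → Fin 6) (hne : ∀ i, f i ≠ i) (hinv : ∀ i, f (f i) = i) :
    ∃ k, syntheme k = f := by
  have inj : ∀ {i j}, f i = f j → i = j := fun {i j} e => by rw [← hinv i, e, hinv]
  obtain ⟨c, hc0, hc1⟩ : ∃ c : Fin 6, c ≠ 0 ∧ c ≠ f 0 := by
    generalize f 0 = z; revert z; decide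
  obtain ⟨k, hk0, hkc⟩ := syntheme_prescribe (f 0) (hne 0) c hc0 hc1 (f c)
    (fun e => hc1 (by rw [← e, hinv])) (fun e => hc0 (inj e)) (hne c)
  refine ⟨k, funext fun d => ?_⟩
  by_cases h0 : d = 0
  · rw [h0, hk0]
  by_cases h1 : d = f 0
  · rw [h1, hinv, ← hk0, syntheme_invol]
  by_cases h2 : d = c
  · rw [h2, hkc]
  by_cases h3 : d = f c
  · rw [h3, hinv, ← hkc, syntheme_invol]
  refine syntheme_last k c hc0 (hk0.symm ▸ hc1) d h0 (hk0.symm ▸ h1) h2 (hkc.symm ▸ h3) _ (hne d)
    ?_ ?_ ?_ ?_
  · exact fun e => h1 (by rw [← e, hinv])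
  · exact fun e => h0 (inj (e.trans hk0))
  · exact fun e => h3 (by rw [← e, hinv])
  · exact fun e => h2 (inj (e.trans hkc))

/-- Points of the model. -/
abbrev ModelPt : Type := Fin 6 ⊕ Fin 15

/-- The model secant through the letters `a`, `b`. -/
def secant (a b : Fin 6) : Finset ModelPt :=
  ({a, b} : Finset (Fin 6)).disjSum (univ.filter fun k => syntheme k a = b)

/-- The lines of the model. -/
def modelLines : Set (Finset ModelPt) :=
  {S | (∃ a b, a ≠ b ∧ S = secant a b) ∨
    (S.card = 5 ∧ ∀ x ∈ S, ∃ j, x = Sum.inr j ∧ ∀ y ∈ S, ∀ k, y = Sum.inr k → k ≠ j → Apart j k)}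

theorem exists_model_iso {α : Type*} [DecidableEq α] [Fintype α] (hα : Fintype.card α = 21)
    {L : Set (Finset α)} (h : Cfsg.IsSteinerSystem 2 5 L) (ι : Fin 6 → α)
    (hι : Function.Injective ι) (hind : Indep L (univ.image ι)) :
    ∃ e : ModelPt ≃ α, (∀ i, e (Sum.inl i) = ι i) ∧
      (fun S => S.image e) '' modelLines = L := by
  classical
  have hmem : ∀ i, ι i ∈ univ.image ι := fun i => mem_image_of_mem ι (mem_univ i)
  have hsep : ∀ a b c, a ≠ b → ι c ∈ line h (ι a) (ι b) → c = a ∨ c = b := fun a b c hab hc => by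
    rcases eq_of_mem_line h hind (hmem a) (hmem b) (hmem c) (hι.ne hab) hc with e | e
    · exact Or.inl (hι e)
    · exact Or.inr (hι e)
  have spec : ∀ {a b : Fin 6}, a ≠ b → line h (ι a) (ι b) ∈ L ∧ ι a ∈ line h (ι a) (ι b) ∧
      ι b ∈ line h (ι a) (ι b) := fun hab => line_spec h (hι.ne hab)
  -- every line through a point of the hyperoval is a secant
  have sec : ∀ a, ∀ l ∈ L, ι a ∈ l → ∃ b, b ≠ a ∧ l = line h (ι a) (ι b) := by
    intro a l hl hal
    set F := univ.filter fun l => l ∈ L ∧ ι a ∈ l with hF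
    have hF5 := card_lines_through h hα (ι a) F (fun l => by simp [hF])
    have hinj : Set.InjOn (fun b => line h (ι a) (ι b)) ↑(univ.erase a) := by
      intro b hb c hc e
      rw [mem_coe, mem_erase] at hb hc
      rcases hsep a b c hb.1.symm (show ι c ∈ line h (ι a) (ι b) from
        (show line h (ι a) (ι b) = line h (ι a) (ι c) from e) ▸ (spec hc.1.symm).2.2) with e' | e'
      · exact absurd e' hc.1
      · exact e'.symm
    have himg : (univ.erase a).image (fun b => line h (ι a) (ι b)) = F := by
      refine eq_of_subset_of_card_le ?_ (by rw [hF5, card_image_of_injOn hinj]; simp)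
      intro k hk
      obtain ⟨b, hb, rfl⟩ := mem_image.mp hk
      obtain ⟨h1, h2, -⟩ := spec (mem_erase.mp hb).1.symm
      simp [hF, h1, h2]
    obtain ⟨b, hb, e⟩ := mem_image.mp (himg ▸ (by simp [hF, hl, hal] : l ∈ F))
    exact ⟨b, (mem_erase.mp hb).1, e.symm⟩
  -- the syntheme of an external point
  have partner : ∀ p, (∀ i, ι i ≠ p) → ∀ a, ∃ b, b ≠ a ∧ p ∈ line h (ι a) (ι b) := by
    intro p hp a
    obtain ⟨hl, hal, hpl⟩ := line_spec h (hp a)
    obtain ⟨b, hb, e⟩ := sec a _ hl hal
    exact ⟨b, hb, e ▸ hpl⟩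
  have partner_unique : ∀ p, (∀ i, ι i ≠ p) → ∀ a b c, b ≠ a → c ≠ a →
      p ∈ line h (ι a) (ι b) → p ∈ line h (ι a) (ι c) → b = c := by
    intro p hp a b c hb hc h1 h2
    have e : line h (ι a) (ι b) = line h (ι a) (ι c) := line_unique h (hp a) (spec hb.symm).1
      (spec hc.symm).1 (spec hb.symm).2.1 h1 (spec hc.symm).2.1 h2
    rcases hsep a b c hb.symm (e ▸ (spec hc.symm).2.2) with e' | e'
    · exact absurd e' hc
    · exact e'.symm
  -- the external point of a syntheme
  have exists_pt : ∀ k, ∃ p, (∀ i, ι i ≠ p) ∧ ∀ a, p ∈ line h (ι a) (ι (syntheme k a)) := by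
    intro k
    obtain ⟨a, ha⟩ : ∃ a, a ≠ 0 ∧ a ≠ syntheme k 0 := by revert k; decide
    obtain ⟨q, hq1, hq2⟩ := exists_inter h hα (spec (syntheme_ne k 0).symm).1
      (spec (syntheme_ne k a).symm).1
    have hq : ∀ i, ι i ≠ q := by
      intro i e
      subst e
      rcases hsep 0 _ i (syntheme_ne k 0).symm hq1 with rfl | rfl <;>
        rcases hsep a _ _ (syntheme_ne k a).symm hq2 with e | e
      · exact ha.1 e.symm
      · exact ha.2 (by rw [e, syntheme_invol])
      · exact ha.2 e.symm
      · exact ha.1 (by rw [← syntheme_invol k a, ← e, syntheme_invol])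
    refine ⟨q, hq, fun c => ?_⟩
    choose f hf hf' using partner q hq
    have hinv : ∀ i, f (f i) = i := fun i => partner_unique q hq (f i) _ i (hf (f i)) (hf i).symm
      (hf' (f i)) (line_comm h (hι.ne (hf i).symm) ▸ hf' i)
    obtain ⟨j, hj⟩ := exists_syntheme f hf hinv
    have h0 : f 0 = syntheme k 0 :=
      partner_unique q hq 0 _ _ (hf 0) (syntheme_ne k 0) (hf' 0) hq1
    have ha' : f a = syntheme k a :=
      partner_unique q hq a _ _ (hf a) (syntheme_ne k a) (hf' a) hq2
    have : j = k := by
      have key : ∀ j k a, a ≠ 0 → a ≠ syntheme k 0 → syntheme j 0 = syntheme k 0 →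
          syntheme j a = syntheme k a → j = k := by decide
      exact key j k a ha.1 ha.2 (hj ▸ h0) (hj ▸ ha')
    subst this
    rw [hj]
    exact hf' c
  choose pt hpt hpt' using exists_pt
  have hbij : Function.Bijective (Sum.elim ι pt) := by
    refine (Fintype.bijective_iff_injective_and_card _).mpr ⟨?_, by simp [hα]⟩
    refine hι.sumElim (fun j k e => syntheme_injective (funext fun a => ?_)) fun i k => hpt k i
    exact partner_unique (pt j) (hpt j) a _ _ (syntheme_ne j a) (syntheme_ne k a) (hpt' j a)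
      (e ▸ hpt' k a)
  refine ⟨Equiv.ofBijective _ hbij, fun i => rfl, ?_⟩
  set e := Equiv.ofBijective _ hbij
  have he : ∀ i, e (Sum.inl i) = ι i := fun i => rfl
  have he' : ∀ k, e (Sum.inr k) = pt k := fun k => rfl
  have hsecant : ∀ a b, a ≠ b → (secant a b).image e = line h (ι a) (ι b) := by
    intro a b hab
    ext p
    obtain ⟨q, rfl⟩ := e.surjective p
    rw [e.injective.mem_finset_image]
    cases q with
    | inl i =>
      simp only [secant, inl_mem_disjSum, mem_insert, mem_singleton, he]
      refine ⟨fun hi => ?_, fun hi => hsep a b i hab hi⟩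
      rcases hi with rfl | rfl
      exacts [(spec hab).2.1, (spec hab).2.2]
    | inr k =>
      simp only [secant, inr_mem_disjSum, mem_filter, mem_univ, true_and, he']
      exact ⟨fun hk => hk ▸ hpt' k a, fun hk =>
        partner_unique (pt k) (hpt k) a _ _ (syntheme_ne k a) hab.symm (hpt' k a) hk⟩
  -- the preimage of an external line is a total
  have hext : ∀ l ∈ L, (∀ i, ι i ∉ l) → ∀ j k, pt j ∈ l → pt k ∈ l → k ≠ j → Apart j k := by
    intro l hl hout j k hj hk hkj a ea
    have hne : pt j ≠ pt k := fun e' => hkj (by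
      have := @hbij.1 (Sum.inr j) (Sum.inr k) e'
      simpa using this.symm)
    have h1 := hpt' j a
    have h2 := hpt' k a
    rw [← ea] at h2
    exact hout a (line_unique h hne hl (spec (syntheme_ne j a).symm).1 hj hk h1 h2 ▸
      (spec (syntheme_ne j a).symm).2.1)
  have hpre : ∀ l ∈ L, (∀ i, ι i ∉ l) → l.image e.symm ∈ modelLines := by
    intro l hl hout
    refine Or.inr ⟨by rw [card_image_of_injective _ e.symm.injective, h.1 l hl], ?_⟩
    intro x hx
    obtain ⟨p, hp, rfl⟩ := mem_image.mp hx
    obtain ⟨q, rfl⟩ := e.surjective p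
    rw [e.symm_apply_apply]
    cases q with
    | inl i => exact absurd hp (hout i)
    | inr j =>
      refine ⟨j, rfl, fun y hy k hk hkj => ?_⟩
      subst hk
      obtain ⟨p', hp', ep⟩ := mem_image.mp hy
      rw [Equiv.symm_apply_eq] at ep
      subst ep
      exact hext l hl hout j k hp hp' hkj
  apply Set.Subset.antisymm
  · rintro _ ⟨S, hS, rfl⟩
    rcases hS with ⟨a, b, hab, rfl⟩ | ⟨h5, hS⟩
    · change (secant a b).image e ∈ L
      rw [hsecant a b hab]
      exact (spec hab).1
    obtain ⟨x, hx, y, hy, hxy⟩ := one_lt_card.mp (by omega : 1 < S.card)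
    obtain ⟨j, rfl, hj⟩ := hS x hx
    obtain ⟨k, rfl, -⟩ := hS y hy
    have hkj : k ≠ j := fun e' => hxy (by rw [e'])
    have hjk : Apart j k := hj _ hy k rfl hkj
    obtain ⟨hl, hjl, hkl⟩ := line_spec h (e.injective.ne hxy)
    set l := line h (e (Sum.inr j)) (e (Sum.inr k)) with hldef
    have hout : ∀ i, ι i ∉ l := by
      intro i hi
      obtain ⟨b, hb, e'⟩ := sec i l hl hi
      rw [e'] at hjl hkl
      exact hjk i ((partner_unique (pt j) (hpt j) i _ _ (syntheme_ne j i) hb (hpt' j i) hjl).trans
        (partner_unique (pt k) (hpt k) i _ _ (syntheme_ne k i) hb (hpt' k i) hkl).symm)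
    -- at most five synthemes contain both and are pairwise apart
    set U : Finset ModelPt := insert (Sum.inr j) (insert (Sum.inr k)
      ((thirds j k).image Sum.inr)) with hU
    have hUc : U.card ≤ 5 := by
      refine (card_insert_le _ _).trans (Nat.succ_le_succ ((card_insert_le _ _).trans
        (Nat.succ_le_succ ((card_image_le).trans (apart_common j k hjk)))))
    have key : ∀ T : Finset ModelPt, T.card = 5 → Sum.inr j ∈ T → Sum.inr k ∈ T →
        (∀ x ∈ T, ∃ j, x = Sum.inr j ∧ ∀ y ∈ T, ∀ k, y = Sum.inr k → k ≠ j → Apart j k) →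
        T = U := by
      intro T hT hTj hTk hTap
      refine eq_of_subset_of_card_le (fun z hz => ?_) (by omega)
      obtain ⟨m, rfl, -⟩ := hTap z hz
      rw [hU]
      by_cases h1 : m = j
      · simp [h1]
      by_cases h2 : m = k
      · simp [h2]
      obtain ⟨j', ej, hj'⟩ := hTap _ hTj
      obtain ⟨k', ek, hk'⟩ := hTap _ hTk
      cases ej; cases ek
      obtain ⟨m', em, hm'⟩ := hTap _ hz
      cases em
      have hrest : 2 ≤ ((T.erase (Sum.inr j)).erase (Sum.inr k)).card - 1 := by
        rw [card_erase_of_mem (mem_erase.mpr ⟨by simp [hkj], hTk⟩), card_erase_of_mem hTj]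
        omega
      have hsub : ((T.erase (Sum.inr j)).erase (Sum.inr k)).erase (Sum.inr m) ⊆
          ((univ.filter fun l => Apart j l ∧ Apart k l).filter (Apart m)).image Sum.inr := by
        intro w hw
        simp only [mem_erase] at hw
        obtain ⟨l, rfl, -⟩ := hTap w hw.2.2.2
        refine mem_image_of_mem _ ?_
        simp only [mem_filter, mem_univ, true_and]
        exact ⟨⟨hj' _ hw.2.2.2 l rfl (fun e' => hw.2.2.1 (e' ▸ rfl)),
          hk' _ hw.2.2.2 l rfl (fun e' => hw.2.1 (e' ▸ rfl))⟩,
          hm' _ hw.2.2.2 l rfl (fun e' => hw.1 (e' ▸ rfl))⟩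
      have h4 := (card_le_card hsub).trans card_image_le
      rw [card_erase_of_mem (by simp [h1, h2, hz])] at h4
      simp only [mem_insert, mem_image, Sum.inr.injEq, h1, h2, false_or, exists_eq_right, thirds,
        mem_filter, mem_univ, true_and]
      exact ⟨⟨hj' _ hz m rfl h1, hk' _ hz m rfl h2⟩, hrest.trans h4⟩
    have hT := hpre l hl hout
    rcases hT with ⟨a, b, hab, e'⟩ | ⟨hT5, hT⟩
    · exfalso
      have : e.symm (ι a) = Sum.inl a := by rw [Equiv.symm_apply_eq]; rfl
      have hm : Sum.inl a ∈ secant a b := by simp [secant]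
      rw [← e'] at hm
      obtain ⟨p, hp, ep⟩ := mem_image.mp hm
      rw [Equiv.symm_apply_eq] at ep
      exact hout a (by rw [← he a, ← ep]; exact hp)
    have hSl : S = l.image e.symm := by
      rw [key S h5 hx hy hS, key _ hT5 (mem_image.mpr ⟨_, hjl, e.symm_apply_apply _⟩)
        (mem_image.mpr ⟨_, hkl, e.symm_apply_apply _⟩) hT]
    change S.image e ∈ L
    rw [hSl, image_image]
    simpa using hl
  · intro l hl
    by_cases hout : ∀ i, ι i ∉ l
    · exact ⟨_, hpre l hl hout, by simp [image_image]⟩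
    push Not at hout
    obtain ⟨a, ha⟩ := hout
    obtain ⟨b, hb, rfl⟩ := sec a l hl ha
    exact ⟨secant a b, Or.inl ⟨a, b, hb.symm, rfl⟩, hsecant a b hb.symm⟩

section Counting

variable {α : Type*} [DecidableEq α] [Fintype α] {L : Set (Finset α)}

open scoped Classical in
/-- The independent sets of given size. -/
noncomputable def indepSets (L : Set (Finset α)) (k : ℕ) : Finset (Finset α) :=
  univ.filter fun S => S.card = k ∧ Indep L S

theorem mem_indepSets {k : ℕ} {S : Finset α} :
    S ∈ indepSets L k ↔ S.card = k ∧ Indep L S := by simp [indepSets]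

theorem indepSets_succ {k e : ℕ} (he : ∀ S ∈ indepSets L k, ∀ [DecidablePred fun x => Indep L (insert x S)],
    (univ.filter fun x => x ∉ S ∧ Indep L (insert x S)).card = e) :
    (indepSets L k).card * e = (indepSets L (k + 1)).card * (k + 1) := by
  classical
  refine card_mul_eq_card_mul (fun S T : Finset α => S ⊆ T) (fun S hS => ?_) fun T hT => ?_
  · rw [← he S hS]
    obtain ⟨hk, -⟩ := mem_indepSets.mp hS
    refine (card_bij (fun x _ => insert x S) ?_ ?_ ?_).symm
    · intro x hx
      simp only [mem_filter, mem_univ, true_and] at hx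
      simp only [mem_bipartiteAbove, mem_indepSets]
      exact ⟨⟨by rw [card_insert_of_notMem hx.1, hk], hx.2⟩, subset_insert _ _⟩
    · intro x hx y hy e'
      simp only [mem_filter, mem_univ, true_and] at hx hy
      exact ((mem_insert.mp (e' ▸ mem_insert_self x S)).resolve_right hx.1)
    · intro T hT
      simp only [mem_bipartiteAbove, mem_indepSets] at hT
      obtain ⟨x, hx, hT'⟩ : ∃ x, x ∉ S ∧ insert x S = T := by
        obtain ⟨x, hx⟩ := card_eq_one.mp
          (by rw [card_sdiff_of_subset hT.2, hT.1.1, hk]; omega : (T \ S).card = 1)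
        have hxm := mem_sdiff.mp (hx ▸ mem_singleton_self x)
        refine ⟨x, hxm.2, ?_⟩
        rw [insert_eq, ← hx, sdiff_union_of_subset hT.2]
      exact ⟨x, by simp [hx, hT', hT.1.2], hT'⟩
  · obtain ⟨hk, hTi⟩ := mem_indepSets.mp hT
    have : (indepSets L k).bipartiteBelow (fun S T : Finset α => S ⊆ T) T =
        T.powersetCard k := by
      ext S
      simp only [mem_bipartiteBelow, mem_indepSets, mem_powersetCard]
      exact ⟨fun hS => ⟨hS.2, hS.1.1⟩, fun hS => ⟨⟨hS.2, hTi.mono hS.1⟩, hS.1⟩⟩
    rw [this, card_powersetCard, hk, Nat.choose_succ_self_right]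

variable (h : Cfsg.IsSteinerSystem 2 5 L) (hα : Fintype.card α = 21)
include h hα

theorem card_indep_four : (indepSets L 4).card = 2520 := by
  classical
  have h2 : indepSets L 2 = powersetCard 2 univ := by
    ext S
    simp only [mem_indepSets, mem_powersetCard, subset_univ, true_and]
    exact ⟨And.left, fun hS => ⟨hS, indep_of_card_le_two h hS.le⟩⟩
  have e2 : ∀ S ∈ indepSets L 2, ∀ [DecidablePred fun x => Indep L (insert x S)],
      (univ.filter fun x => x ∉ S ∧ Indep L (insert x S)).card = 16 := by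
    intro S hS _
    obtain ⟨hS2, hSi⟩ := mem_indepSets.mp hS
    obtain ⟨a, b, hab, rfl⟩ := card_eq_two.mp hS2
    obtain ⟨hl, hal, hbl⟩ := line_spec h hab
    have : (univ.filter fun x => x ∉ ({a, b} : Finset α) ∧ Indep L (insert x {a, b})) =
        univ \ line h a b := by
      ext x
      simp only [mem_filter, mem_univ, true_and, mem_sdiff]
      constructor
      · rintro ⟨hx, hi⟩
        exact (indep_iff_insert h hSi hx).mp hi a (by simp) b (by simp) hab
      · intro hx
        have hx' : x ∉ ({a, b} : Finset α) := by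
          simp only [mem_insert, mem_singleton, not_or]
          exact ⟨fun e => hx (e ▸ hal), fun e => hx (e ▸ hbl)⟩
        refine ⟨hx', (indep_iff_insert h hSi hx').mpr fun y hy z hz hyz => ?_⟩
        simp only [mem_insert, mem_singleton] at hy hz
        rcases hy with rfl | rfl <;> rcases hz with rfl | rfl
        all_goals first
          | exact absurd rfl hyz
          | exact hx
          | (rw [line_comm h hyz]; exact hx)
    rw [this, card_sdiff_of_subset (subset_univ _), card_univ, hα, h.1 _ hl]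
  have e3 : ∀ S ∈ indepSets L 3, ∀ [DecidablePred fun x => Indep L (insert x S)],
      (univ.filter fun x => x ∉ S ∧ Indep L (insert x S)).card = 9 := by
    intro S hS _
    obtain ⟨hS3, hSi⟩ := mem_indepSets.mp hS
    obtain ⟨a, b, c, hab, hac, hbc, rfl⟩ := card_eq_three.mp hS3
    obtain ⟨l1, a1, b1⟩ := line_spec h hab
    obtain ⟨l2, a2, c2⟩ := line_spec h hac
    obtain ⟨l3, b3, c3⟩ := line_spec h hbc
    have ma : a ∈ ({a, b, c} : Finset α) := by simp
    have mb : b ∈ ({a, b, c} : Finset α) := by simp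
    have mc : c ∈ ({a, b, c} : Finset α) := by simp
    have n12 : line h a b ≠ line h a c := fun e => by
      rcases eq_of_mem_line h hSi ma mb mc hab (e ▸ c2) with e' | e'
      · exact hac e'.symm
      · exact hbc e'.symm
    have n13 : line h a b ≠ line h b c := fun e => by
      rcases eq_of_mem_line h hSi ma mb mc hab (e ▸ c3) with e' | e'
      · exact hac e'.symm
      · exact hbc e'.symm
    have n23 : line h a c ≠ line h b c := fun e => by
      rcases eq_of_mem_line h hSi ma mc mb hac (e ▸ b3) with e' | e'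
      · exact hab e'.symm
      · exact hbc e'
    have : (univ.filter fun x => x ∉ ({a, b, c} : Finset α) ∧ Indep L (insert x {a, b, c})) =
        univ \ (line h a b ∪ line h a c ∪ line h b c) := by
      ext x
      simp only [mem_filter, mem_univ, true_and, mem_sdiff, mem_union, not_or]
      constructor
      · rintro ⟨hx, hi⟩
        have := (indep_iff_insert h hSi hx).mp hi
        exact ⟨⟨this a ma b mb hab, this a ma c mc hac⟩, this b mb c mc hbc⟩
      · rintro ⟨⟨x1, x2⟩, x3⟩
        have hx' : x ∉ ({a, b, c} : Finset α) := by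
          simp only [mem_insert, mem_singleton, not_or]
          exact ⟨fun e => x1 (e ▸ a1), fun e => x1 (e ▸ b1), fun e => x2 (e ▸ c2)⟩
        refine ⟨hx', (indep_iff_insert h hSi hx').mpr fun y hy z hz hyz => ?_⟩
        simp only [mem_insert, mem_singleton] at hy hz
        rcases hy with rfl | rfl | rfl <;> rcases hz with rfl | rfl | rfl
        all_goals first
          | exact absurd rfl hyz
          | assumption
          | (rw [line_comm h hyz]; assumption)
    rw [this, card_sdiff_of_subset (subset_univ _), card_univ, hα]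
    have i12 := card_union_add_card_inter (line h a b) (line h a c)
    rw [inter_eq_singleton h l1 l2 n12 a1 a2, h.1 _ l1, h.1 _ l2, card_singleton] at i12
    have i3 := card_union_add_card_inter (line h a b ∪ line h a c) (line h b c)
    rw [union_inter_distrib_right, inter_eq_singleton h l1 l3 n13 b1 b3,
      inter_eq_singleton h l2 l3 n23 c2 c3, h.1 _ l3,
      show ({b} ∪ {c} : Finset α).card = 2 by rw [← insert_eq, card_pair hbc]] at i3
    omega
  have k2 : (indepSets L 2).card * 16 = (indepSets L 3).card * 3 :=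
    indepSets_succ (fun S hS => e2 S hS)
  have k3 : (indepSets L 3).card * 9 = (indepSets L 4).card * 4 :=
    indepSets_succ (fun S hS => e3 S hS)
  rw [h2, card_powersetCard, card_univ, hα, show Nat.choose 21 2 = 210 by rfl] at k2
  omega

theorem card_hyperovals : (indepSets L 6).card = 168 := by
  classical
  have key := card_mul_eq_card_mul (fun S T : Finset α => S ⊆ T) (s := indepSets L 4)
    (t := indepSets L 6) (m := 1) (n := 15) ?_ ?_
  · rw [card_indep_four h hα] at key
    omega
  · intro S hS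
    obtain ⟨h4, hi⟩ := mem_indepSets.mp hS
    obtain ⟨H, hH, hu⟩ := completion h hα h4 hi
    refine card_eq_one.mpr ⟨H, ?_⟩
    ext T
    simp only [mem_bipartiteAbove, mem_indepSets, mem_singleton]
    exact ⟨fun hT => hu T hT, fun hT => hT ▸ hH⟩
  · intro T hT
    obtain ⟨h6, hi⟩ := mem_indepSets.mp hT
    have : (indepSets L 4).bipartiteBelow (fun S T : Finset α => S ⊆ T) T = T.powersetCard 4 := by
      ext S
      simp only [mem_bipartiteBelow, mem_indepSets, mem_powersetCard]
      exact ⟨fun hS => ⟨hS.2, hS.1.1⟩, fun hS => ⟨⟨hS.2, hi.mono hS.1⟩, hS.1⟩⟩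
    rw [this, card_powersetCard, h6]
    rfl

theorem exists_hyperoval : ∃ ι : Fin 6 → α, Function.Injective ι ∧ Indep L (univ.image ι) := by
  classical
  obtain ⟨H, hH⟩ : (indepSets L 6).Nonempty :=
    card_pos.mp (by rw [card_hyperovals h hα]; norm_num)
  obtain ⟨h6, hi⟩ := mem_indepSets.mp hH
  let e := (H.equivFinOfCardEq h6).symm
  refine ⟨fun i => (e i : α), Subtype.val_injective.comp e.injective, hi.mono ?_⟩
  intro x hx
  obtain ⟨i, -, rfl⟩ := mem_image.mp hx
  exact (e i).2

end Counting

end Cfsg.Agent.PlaneFour
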