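/-
Counting in a Steiner system S(3, 6, 22).
-/
import Cfsg.Prelude.Def_Sporadic_a

set_option autoImplicit false

namespace Cfsg.Agent.Steiner

open Finset

variable {α : Type*} [DecidableEq α]

/-- Every member of `F` meets `S` in `0` or `2` points and every pair in `S` lies in `k` members:
then the members meeting `S` number `k * C(|S|, 2)`. -/
theorem card_meeting (F : Finset (Finset α)) (S : Finset α) (k : ℕ)
    (h02 : ∀ d ∈ F, (d ∩ S).card = 0 ∨ (d ∩ S).card = 2)
    (hpair : ∀ P ∈ S.powersetCard 2, (F.filter fun d => P ⊆ d).card = k) :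
    (F.filter fun d => (d ∩ S).card = 2).card = k * S.card.choose 2 := by
  have key := Finset.card_mul_eq_card_mul (fun (d : Finset α) (P : Finset α) => P ⊆ d)
    (s := F.filter fun d => (d ∩ S).card = 2) (t := S.powersetCard 2) (m := 1) (n := k) ?_ ?_
  · rw [mul_one, card_powersetCard] at key
    rw [key, mul_comm]
  · intro d hd
    rw [mem_filter] at hd
    refine card_eq_one.2 ⟨d ∩ S, ?_⟩
    ext P
    simp only [bipartiteAbove, mem_filter, mem_powersetCard, mem_singleton]
    constructor
    · rintro ⟨⟨h1, h2⟩, h3⟩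
      exact eq_of_subset_of_card_le (subset_inter h3 h1) (by omega)
    · rintro rfl
      exact ⟨⟨inter_subset_right, hd.2⟩, inter_subset_left⟩
  · intro P hP
    rw [← hpair P hP]
    refine congrArg card ?_
    ext d
    simp only [bipartiteBelow, mem_filter]
    constructor
    · rintro ⟨⟨h1, _⟩, h3⟩
      exact ⟨h1, h3⟩
    · rintro ⟨h1, h3⟩
      refine ⟨⟨h1, (h02 d h1).resolve_left fun h0 => ?_⟩, h3⟩
      rw [mem_powersetCard] at hP
      have := card_le_card (subset_inter h3 hP.1)
      omega

variable [Fintype α] {B : Finset (Finset α)}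

/-- Uniqueness of the block through three points. -/
theorem inter_card_le_two (h : Cfsg.IsSteinerSystem 3 6 (B : Set (Finset α))) {b c : Finset α}
    (hb : b ∈ B) (hc : c ∈ B) (hne : b ≠ c) : (b ∩ c).card ≤ 2 := by
  by_contra hlt
  obtain ⟨s, hs, hs3⟩ := exists_subset_card_eq (show 3 ≤ (b ∩ c).card by omega)
  exact hne ((h.2 s hs3).unique ⟨hb, hs.trans inter_subset_left⟩ ⟨hc, hs.trans inter_subset_right⟩)

section Counts

variable (h : Cfsg.IsSteinerSystem 3 6 (B : Set (Finset α))) (hα : Fintype.card α = 22)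
include h hα

theorem card_through_pair {p q : α} (hpq : p ≠ q) :
    (B.filter fun d => {p, q} ⊆ d).card = 5 := by
  have key := Finset.card_mul_eq_card_mul (fun (x : α) (d : Finset α) => x ∈ d)
    (s := univ \ {p, q}) (t := B.filter fun d => {p, q} ⊆ d) (m := 1) (n := 4) ?_ ?_
  · have : (univ \ ({p, q} : Finset α)).card = 20 := by
      rw [card_sdiff_of_subset (subset_univ _), card_univ, hα, card_pair hpq]
    omega
  · intro x hx
    simp only [mem_sdiff, mem_univ, true_and, mem_insert, mem_singleton, not_or] at hx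
    obtain ⟨b, ⟨hb, hsub⟩, huniq⟩ := h.2 {x, p, q}
      (card_eq_three.2 ⟨x, p, q, hx.1, hx.2, hpq, rfl⟩)
    refine card_eq_one.2 ⟨b, ?_⟩
    ext d
    simp only [bipartiteAbove, mem_filter, mem_singleton]
    constructor
    · rintro ⟨⟨hd, hpq'⟩, hxd⟩
      exact huniq d ⟨hd, insert_subset hxd hpq'⟩
    · rintro rfl
      exact ⟨⟨hb, (subset_insert _ _).trans hsub⟩, hsub (mem_insert_self _ _)⟩
  · intro d hd
    rw [mem_filter] at hd
    have : (univ \ ({p, q} : Finset α)).bipartiteBelow (fun x d => x ∈ d) d = d \ {p, q} := by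
      ext x; simp [bipartiteBelow, and_comm]
    rw [this, card_sdiff_of_subset hd.2, h.1 d hd.1, card_pair hpq]

theorem card_through_point (p : α) : (B.filter fun d => p ∈ d).card = 21 := by
  have key := Finset.card_mul_eq_card_mul (fun (x : α) (d : Finset α) => x ∈ d)
    (s := univ.erase p) (t := B.filter fun d => p ∈ d) (m := 5) (n := 5) ?_ ?_
  · rw [card_erase_of_mem (mem_univ p), card_univ, hα] at key
    omega
  · intro x hx
    rw [← card_through_pair h hα (ne_of_mem_erase hx)]
    refine congrArg card ?_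
    ext d
    simp only [bipartiteAbove, mem_filter, insert_subset_iff, singleton_subset_iff]
    tauto
  · intro d hd
    rw [mem_filter] at hd
    have : (univ.erase p).bipartiteBelow (fun x d => x ∈ d) d = d.erase p := by
      ext x; simp [bipartiteBelow]
    rw [this, card_erase_of_mem hd.2, h.1 d hd.1]

theorem card_blocks : B.card = 77 := by
  have key := Finset.card_mul_eq_card_mul (fun (x : α) (d : Finset α) => x ∈ d)
    (s := univ) (t := B) (m := 21) (n := 6) ?_ ?_
  · rw [card_univ, hα] at key
    omega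
  · intro x _
    exact card_through_point h hα x
  · intro d hd
    rw [← h.1 d hd]
    refine congrArg card ?_
    ext x
    simp [bipartiteBelow]

/-- Two blocks meet in 0 or 2 points. -/
theorem inter_card {b c : Finset α} (hb : b ∈ B) (hc : c ∈ B) (hne : b ≠ c) :
    (b ∩ c).card = 0 ∨ (b ∩ c).card = 2 := by
  rcases Nat.eq_zero_or_pos (b ∩ c).card with h0 | h0
  · exact Or.inl h0
  right
  obtain ⟨p, hp⟩ := card_pos.1 h0
  rw [mem_inter] at hp
  set T := (B.filter fun d => p ∈ d).erase b with hT
  have hTc : T.card = 20 := by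
    rw [hT, card_erase_of_mem (by simp [hb, hp.1]), card_through_point h hα p]
  have hsum : ∑ d ∈ T, (((b.erase p).bipartiteBelow (fun x d => x ∈ d) d).card) = ∑ _d ∈ T, 1 := by
    rw [← sum_card_bipartiteAbove_eq_sum_card_bipartiteBelow, sum_const, smul_eq_mul, mul_one, hTc]
    have : ∀ x ∈ b.erase p, (T.bipartiteAbove (fun x d => x ∈ d) x).card = 4 := by
      intro x hx
      have : T.bipartiteAbove (fun x d => x ∈ d) x = (B.filter fun d => {p, x} ⊆ d).erase b := by
        ext d
        simp [hT, bipartiteAbove, insert_subset_iff, and_assoc]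
      rw [this, card_erase_of_mem (by simp [hb, hp.1, insert_subset_iff, mem_of_mem_erase hx]),
        card_through_pair h hα (ne_of_mem_erase hx).symm]
    rw [sum_congr rfl this, sum_const, card_erase_of_mem hp.1, h.1 b hb, smul_eq_mul]
  have hle : ∀ d ∈ T, ((b.erase p).bipartiteBelow (fun x d => x ∈ d) d).card ≤ 1 := by
    intro d hd
    simp only [hT, mem_erase, mem_filter] at hd
    have h2 := inter_card_le_two h hb hd.2.1 (Ne.symm hd.1)
    have : (b.erase p).bipartiteBelow (fun x d => x ∈ d) d = (b ∩ d).erase p := by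
      ext x; simp [bipartiteBelow, and_assoc]
    rw [this, card_erase_of_mem (mem_inter.2 ⟨hp.1, hd.2.2⟩)]
    omega
  have := (sum_eq_sum_iff_of_le hle).1 hsum c (by simp [hT, Ne.symm hne, hc, hp.2])
  have he : (b.erase p).bipartiteBelow (fun x d => x ∈ d) c = (b ∩ c).erase p := by
    ext x; simp [bipartiteBelow, and_assoc]
  rw [he, card_erase_of_mem (mem_inter.2 ⟨hp.1, hp.2⟩)] at this
  omega

/-- 16 blocks are disjoint from a given block. -/
theorem card_disjoint {b : Finset α} (hb : b ∈ B) :
    (B.filter fun d => Disjoint b d).card = 16 := by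
  have h60 : ((B.erase b).filter fun d => (d ∩ b).card = 2).card = 60 := by
    rw [card_meeting (B.erase b) b 4 ?_ ?_, h.1 b hb]
    · rfl
    · intro d hd
      rw [mem_erase] at hd
      exact inter_card h hα hd.2 hb hd.1
    · intro P hP
      rw [mem_powersetCard] at hP
      obtain ⟨p, q, hpq, rfl⟩ := card_eq_two.1 hP.2
      rw [filter_erase, card_erase_of_mem (mem_filter.2 ⟨hb, hP.1⟩),
        card_through_pair h hα hpq]
  have hsplit : (B.filter fun d => Disjoint b d) =
      (B.erase b) \ ((B.erase b).filter fun d => (d ∩ b).card = 2) := by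
    ext d
    simp only [mem_filter, mem_sdiff, mem_erase, not_and]
    constructor
    · rintro ⟨hd, hdis⟩
      have h0 : (d ∩ b).card = 0 := by
        rw [card_eq_zero, ← disjoint_iff_inter_eq_empty]; exact hdis.symm
      refine ⟨⟨?_, hd⟩, fun _ => by omega⟩
      rintro rfl
      have := h.1 d hd
      rw [inter_self] at h0
      omega
    · rintro ⟨⟨hne, hd⟩, hn⟩
      have h0 := (inter_card h hα hd hb hne).resolve_right (hn ⟨hne, hd⟩)
      refine ⟨hd, ?_⟩
      rw [card_eq_zero, ← disjoint_iff_inter_eq_empty] at h0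
      exact h0.symm
  rw [hsplit, card_sdiff_of_subset (filter_subset _ _), h60, card_erase_of_mem hb, card_blocks h hα]

/-- 6 blocks through a point outside `b` are disjoint from `b`. -/
theorem card_disjoint_through_point {b : Finset α} (hb : b ∈ B) {p : α} (hp : p ∉ b) :
    (B.filter fun d => Disjoint b d ∧ p ∈ d).card = 6 := by
  set F := B.filter fun d => p ∈ d with hF
  have key := Finset.card_mul_eq_card_mul (fun (x : α) (d : Finset α) => x ∈ d)
    (s := b) (t := F.filter fun d => ¬ Disjoint b d) (m := 5) (n := 2) ?_ ?_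
  · have htot := card_filter_add_card_filter_not (s := F) (fun d => Disjoint b d)
    rw [hF, card_through_point h hα p, ← hF, filter_filter] at htot
    have heq : (B.filter fun d => Disjoint b d ∧ p ∈ d) =
        B.filter fun d => p ∈ d ∧ Disjoint b d := filter_congr fun _ _ => and_comm
    rw [heq]
    rw [h.1 b hb] at key
    omega
  · intro x hx
    rw [← card_through_pair h hα (p := p) (q := x) (fun e => hp (e ▸ hx))]
    refine congrArg card ?_
    ext d
    simp only [bipartiteAbove, mem_filter, hF, insert_subset_iff, singleton_subset_iff]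
    exact ⟨fun h => ⟨h.1.1.1, h.1.1.2, h.2⟩,
      fun h => ⟨⟨⟨h.1, h.2.1⟩, not_disjoint_iff.2 ⟨x, hx, h.2.2⟩⟩, h.2.2⟩⟩
  · intro d hd
    simp only [hF, mem_filter] at hd
    have he : b.bipartiteBelow (fun x d => x ∈ d) d = b ∩ d := by
      ext x; simp [bipartiteBelow]
    rw [he]
    refine (inter_card h hα hb hd.1.1 (fun e => hp (e ▸ hd.1.2))).resolve_left fun h0 => hd.2 ?_
    rw [card_eq_zero, ← disjoint_iff_inter_eq_empty] at h0
    exact h0

/-- 2 blocks through a pair outside `b` are disjoint from `b`. -/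
theorem card_disjoint_through_pair {b : Finset α} (hb : b ∈ B) {p q : α} (hp : p ∉ b)
    (hq : q ∉ b) (hpq : p ≠ q) :
    (B.filter fun d => Disjoint b d ∧ {p, q} ⊆ d).card = 2 := by
  set F := B.filter fun d => {p, q} ⊆ d with hF
  have key := Finset.card_mul_eq_card_mul (fun (x : α) (d : Finset α) => x ∈ d)
    (s := b) (t := F.filter fun d => ¬ Disjoint b d) (m := 1) (n := 2) ?_ ?_
  · have htot := card_filter_add_card_filter_not (s := F) (fun d => Disjoint b d)
    rw [hF, card_through_pair h hα hpq, ← hF, filter_filter] at htot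
    have heq : (B.filter fun d => Disjoint b d ∧ {p, q} ⊆ d) =
        B.filter fun d => {p, q} ⊆ d ∧ Disjoint b d := filter_congr fun _ _ => and_comm
    rw [heq]
    rw [h.1 b hb] at key
    omega
  · intro x hx
    obtain ⟨c, ⟨hc, hsub⟩, huniq⟩ := h.2 {x, p, q}
      (card_eq_three.2 ⟨x, p, q, fun e => hp (e ▸ hx), fun e => hq (e ▸ hx), hpq, rfl⟩)
    refine card_eq_one.2 ⟨c, ?_⟩
    ext d
    simp only [bipartiteAbove, hF, mem_filter, mem_singleton]
    constructor
    · rintro ⟨⟨⟨hd, hpq'⟩, _⟩, hxd⟩
      exact huniq d ⟨hd, insert_subset hxd hpq'⟩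
    · rintro rfl
      exact ⟨⟨⟨hc, (subset_insert _ _).trans hsub⟩,
        not_disjoint_iff.2 ⟨x, hx, hsub (mem_insert_self _ _)⟩⟩, hsub (mem_insert_self _ _)⟩
  · intro d hd
    simp only [hF, mem_filter] at hd
    have he : b.bipartiteBelow (fun x d => x ∈ d) d = b ∩ d := by
      ext x; simp [bipartiteBelow]
    rw [he]
    refine (inter_card h hα hb hd.1.1
      (fun e => hp (e ▸ hd.1.2 (mem_insert_self _ _)))).resolve_left fun h0 => hd.2 ?_
    rw [card_eq_zero, ← disjoint_iff_inter_eq_empty] at h0
    exact h0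

/-- No block is disjoint from two disjoint blocks. -/
theorem card_disjoint_disjoint {b c : Finset α} (hb : b ∈ B) (hc : c ∈ B) (hbc : Disjoint b c) :
    (B.filter fun d => Disjoint b d ∧ Disjoint c d).card = 0 := by
  set F := (B.filter fun d => Disjoint b d).erase c with hF
  have h15 : (F.filter fun d => (d ∩ c).card = 2).card = 15 := by
    rw [card_meeting F c 1 ?_ ?_, h.1 c hc]
    · rfl
    · intro d hd
      simp only [hF, mem_erase, mem_filter] at hd
      exact inter_card h hα hd.2.1 hc hd.1
    · intro P hP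
      rw [mem_powersetCard] at hP
      obtain ⟨p, q, hpq, rfl⟩ := card_eq_two.1 hP.2
      rw [hF, filter_erase, filter_filter, card_erase_of_mem (mem_filter.2 ⟨hc, hbc, hP.1⟩),
        card_disjoint_through_pair h hα hb
          (fun hpb => disjoint_left.1 hbc hpb (hP.1 (by simp)))
          (fun hqb => disjoint_left.1 hbc hqb (hP.1 (by simp))) hpq]
  have hF15 : F.card = 15 := by
    rw [hF, card_erase_of_mem (mem_filter.2 ⟨hc, hbc⟩), card_disjoint h hα hb]
  rw [card_eq_zero]
  apply eq_empty_of_forall_notMem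
  intro d hd
  rw [mem_filter] at hd
  have hdc : d ≠ c := by
    rintro rfl
    have h6 := h.1 d hd.1
    rw [disjoint_self.1 hd.2.2] at h6
    simp at h6
  have hdF : d ∈ F := mem_erase.2 ⟨hdc, mem_filter.2 ⟨hd.1, hd.2.1⟩⟩
  have hall := eq_of_subset_of_card_le (filter_subset _ F) (le_of_eq (hF15.trans h15.symm))
  rw [← hall, mem_filter] at hdF
  rw [inter_comm, disjoint_iff_inter_eq_empty.1 hd.2.2] at hdF
  simp at hdF

/-- 4 blocks are disjoint from two meeting blocks. -/
theorem card_disjoint_meeting {b c : Finset α} (hb : b ∈ B) (hc : c ∈ B) (hne : b ≠ c)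
    (hbc : ¬ Disjoint b c) : (B.filter fun d => Disjoint b d ∧ Disjoint c d).card = 4 := by
  have h2 : (b ∩ c).card = 2 := (inter_card h hα hb hc hne).resolve_left fun h0 => hbc (by
    rw [card_eq_zero, ← disjoint_iff_inter_eq_empty] at h0; exact h0)
  set S := c \ b with hS
  have hS4 : S.card = 4 := by
    rw [hS, card_sdiff, h.1 c hc, h2]
  set F := B.filter fun d => Disjoint b d with hF
  have hint : ∀ d ∈ F, d ∩ S = d ∩ c := by
    intro d hd
    rw [hF, mem_filter] at hd
    ext x
    simp only [hS, mem_inter, mem_sdiff]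
    exact ⟨fun hx => ⟨hx.1, hx.2.1⟩, fun hx => ⟨hx.1, hx.2, fun hxb => disjoint_left.1 hd.2 hxb hx.1⟩⟩
  have hdc : ∀ d ∈ F, d ≠ c := by
    rintro d hd rfl
    exact hbc (mem_filter.1 hd).2
  have h12 : (F.filter fun d => (d ∩ S).card = 2).card = 12 := by
    rw [card_meeting F S 2 ?_ ?_, hS4]
    · rfl
    · intro d hd
      rw [hint d hd]
      exact inter_card h hα (mem_filter.1 hd).1 hc (hdc d hd)
    · intro P hP
      rw [mem_powersetCard] at hP
      obtain ⟨p, q, hpq, rfl⟩ := card_eq_two.1 hP.2
      rw [hF, filter_filter]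
      exact card_disjoint_through_pair h hα hb (mem_sdiff.1 (hP.1 (by simp))).2
        (mem_sdiff.1 (hP.1 (by simp))).2 hpq
  have hsplit : (B.filter fun d => Disjoint b d ∧ Disjoint c d) =
      F \ (F.filter fun d => (d ∩ S).card = 2) := by
    ext d
    constructor
    · intro hd
      rw [mem_filter] at hd
      have hdF : d ∈ F := mem_filter.2 ⟨hd.1, hd.2.1⟩
      refine mem_sdiff.2 ⟨hdF, fun hh => ?_⟩
      rw [mem_filter, hint d hdF, inter_comm, disjoint_iff_inter_eq_empty.1 hd.2.2] at hh
      simp at hh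
    · intro hd
      obtain ⟨hdF, hn⟩ := mem_sdiff.1 hd
      have h0 := (inter_card h hα (mem_filter.1 hdF).1 hc (hdc d hdF)).resolve_right
        (fun h2 => hn (mem_filter.2 ⟨hdF, by rw [hint d hdF]; exact h2⟩))
      rw [card_eq_zero, ← disjoint_iff_inter_eq_empty] at h0
      exact mem_filter.2 ⟨(mem_filter.1 hdF).1, (mem_filter.1 hdF).2, h0.symm⟩
  rw [hsplit, card_sdiff_of_subset (filter_subset _ _), h12, hF, card_disjoint h hα hb]

end Counts

end Cfsg.Agent.Steiner
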