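import Cfsg.Prelude.Def_Sporadic_a

/-!
The projective plane of order 4 as a Steiner system S(2, 5, 21): hyperovals, their number, and the
model of the plane on a hyperoval (duads, synthemes, totals).
-/

set_option autoImplicit false

namespace Cfsg.Agent.PlaneFour

open Finset

variable {α : Type*} [DecidableEq α] {L : Set (Finset α)}

/-- A set of points met by no line in more than two points. -/
def Indep (L : Set (Finset α)) (S : Finset α) : Prop := ∀ l ∈ L, (l ∩ S).card ≤ 2

theorem exists_line (h : Cfsg.IsSteinerSystem 2 5 L) {p q : α} (hpq : p ≠ q) :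
    ∃ l ∈ L, p ∈ l ∧ q ∈ l := by
  obtain ⟨l, ⟨hl, hs⟩, -⟩ := h.2 {p, q} (card_pair hpq)
  exact ⟨l, hl, hs (by simp), hs (by simp)⟩

/-- The line through two points. -/
noncomputable def line (h : Cfsg.IsSteinerSystem 2 5 L) (p q : α) : Finset α :=
  open scoped Classical in if hpq : p = q then ∅ else (exists_line h hpq).choose

variable (h : Cfsg.IsSteinerSystem 2 5 L)
include h

theorem line_spec {p q : α} (hpq : p ≠ q) :
    line h p q ∈ L ∧ p ∈ line h p q ∧ q ∈ line h p q := by
  simpa [line, hpq] using (exists_line h hpq).choose_spec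

theorem line_unique {p q : α} (hpq : p ≠ q) {l m : Finset α} (hl : l ∈ L) (hm : m ∈ L)
    (hpl : p ∈ l) (hql : q ∈ l) (hpm : p ∈ m) (hqm : q ∈ m) : l = m :=
  (h.2 {p, q} (card_pair hpq)).unique
    ⟨hl, insert_subset hpl (singleton_subset_iff.mpr hql)⟩
    ⟨hm, insert_subset hpm (singleton_subset_iff.mpr hqm)⟩

theorem line_eq {p q : α} (hpq : p ≠ q) {l : Finset α} (hl : l ∈ L) (hp : p ∈ l) (hq : q ∈ l) :
    line h p q = l :=
  line_unique h hpq (line_spec h hpq).1 hl (line_spec h hpq).2.1 (line_spec h hpq).2.2 hp hq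

theorem line_comm {p q : α} (hpq : p ≠ q) : line h p q = line h q p :=
  line_eq h hpq (line_spec h hpq.symm).1 (line_spec h hpq.symm).2.2 (line_spec h hpq.symm).2.1

theorem eq_of_mem_mem {l m : Finset α} (hl : l ∈ L) (hm : m ∈ L) (hne : l ≠ m) {p q : α}
    (hpl : p ∈ l) (hpm : p ∈ m) (hql : q ∈ l) (hqm : q ∈ m) : p = q := by
  by_contra hpq
  exact hne (line_unique h hpq hl hm hpl hql hpm hqm)

theorem inter_eq_singleton {l m : Finset α} (hl : l ∈ L) (hm : m ∈ L) (hne : l ≠ m) {p : α}
    (hpl : p ∈ l) (hpm : p ∈ m) : l ∩ m = {p} := by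
  refine eq_singleton_iff_unique_mem.mpr ⟨mem_inter.mpr ⟨hpl, hpm⟩, fun q hq => ?_⟩
  rw [mem_inter] at hq
  exact (eq_of_mem_mem h hl hm hne hpl hpm hq.1 hq.2).symm

section Counting

variable [Fintype α] (hα : Fintype.card α = 21)
include hα

theorem card_lines_through (p : α) (F : Finset (Finset α))
    (hF : ∀ l, l ∈ F ↔ l ∈ L ∧ p ∈ l) : F.card = 5 := by
  have key : (univ.erase p).card = ∑ l ∈ F, (l.erase p).card := by
    rw [← card_biUnion]
    · refine congrArg card ?_
      ext q
      simp only [mem_erase, mem_univ, and_true, mem_biUnion]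
      refine ⟨fun hq => ?_, fun ⟨_, _, hq, _⟩ => hq⟩
      obtain ⟨hl, hp, hq'⟩ := line_spec h hq.symm
      exact ⟨line h p q, (hF _).mpr ⟨hl, hp⟩, hq, hq'⟩
    · intro l hl m hm hne
      refine disjoint_left.mpr fun q hq hq' => ?_
      rw [mem_erase] at hq hq'
      exact hq.1 (eq_of_mem_mem h ((hF l).mp hl).1 ((hF m).mp hm).1 hne ((hF l).mp hl).2
        ((hF m).mp hm).2 hq.2 hq'.2).symm
  rw [card_erase_of_mem (mem_univ p), card_univ, hα,
    sum_congr rfl fun l hl => by rw [card_erase_of_mem ((hF l).mp hl).2, h.1 l ((hF l).mp hl).1],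
    sum_const, smul_eq_mul] at key
  omega

theorem exists_inter {l m : Finset α} (hl : l ∈ L) (hm : m ∈ L) : ∃ q, q ∈ l ∧ q ∈ m := by
  classical
  obtain ⟨p, hp⟩ : m.Nonempty := card_pos.mp (by rw [h.1 m hm]; norm_num)
  by_cases hpl : p ∈ l
  · exact ⟨p, hpl, hp⟩
  have hne : ∀ q ∈ l, p ≠ q := fun q hq e => hpl (e ▸ hq)
  set F := univ.filter fun k => k ∈ L ∧ p ∈ k with hF
  have hF5 := card_lines_through h hα p F (fun k => by simp [hF])
  have hinj : Set.InjOn (line h p) (l : Set α) := by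
    intro q hq q' hq' e
    refine eq_of_mem_mem h hl (line_spec h (hne q hq)).1 ?_ hq (line_spec h (hne q hq)).2.2 hq'
      (e ▸ (line_spec h (hne q' hq')).2.2)
    intro e'
    exact hpl (e' ▸ (line_spec h (hne q hq)).2.1)
  have himg : l.image (line h p) = F := by
    refine eq_of_subset_of_card_le ?_ (by rw [hF5, card_image_of_injOn hinj, h.1 l hl])
    intro k hk
    obtain ⟨q, hq, rfl⟩ := mem_image.mp hk
    simp [hF, (line_spec h (hne q hq)).1, (line_spec h (hne q hq)).2.1]
  obtain ⟨q, hq, e⟩ := mem_image.mp (himg ▸ (by simp [hF, hm, hp] : m ∈ F))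
  exact ⟨q, hq, e ▸ (line_spec h (hne q hq)).2.2⟩

end Counting

theorem indep_iff_insert {S : Finset α} {x : α} (hS : Indep L S) (hx : x ∉ S) :
    Indep L (insert x S) ↔ ∀ a ∈ S, ∀ b ∈ S, a ≠ b → x ∉ line h a b := by
  constructor
  · intro hi a ha b hb hab hxl
    obtain ⟨hl, hal, hbl⟩ := line_spec h hab
    have hsub : ({x, a, b} : Finset α) ⊆ line h a b ∩ insert x S := by
      simp [insert_subset_iff, hal, hbl, hxl, ha, hb]
    have h3 : ({x, a, b} : Finset α).card = 3 :=
      card_eq_three.mpr ⟨x, a, b, fun e => hx (e ▸ ha), fun e => hx (e ▸ hb), hab, rfl⟩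
    have := (card_le_card hsub).trans (hi _ hl)
    omega
  · intro hc l hl
    by_cases hxl : x ∈ l
    · rw [inter_insert_of_mem hxl, card_insert_of_notMem (fun e => hx (mem_inter.mp e).2)]
      have : (l ∩ S).card ≤ 1 := by
        by_contra hlt
        obtain ⟨a, ha, b, hb, hab⟩ := one_lt_card.mp (by omega : 1 < (l ∩ S).card)
        rw [mem_inter] at ha hb
        exact hc a ha.2 b hb.2 hab (line_eq h hab hl ha.1 hb.1 ▸ hxl)
      omega
    · rw [inter_insert_of_notMem hxl]; exact hS l hl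

omit h in
theorem Indep.mono {S T : Finset α} (hT : Indep L T) (hST : S ⊆ T) : Indep L S :=
  fun l hl => (card_le_card (inter_subset_inter_left hST)).trans (hT l hl)

theorem eq_of_mem_line {S : Finset α} (hS : Indep L S) {a b c : α} (ha : a ∈ S) (hb : b ∈ S)
    (hc : c ∈ S) (hab : a ≠ b) (hcl : c ∈ line h a b) : c = a ∨ c = b := by
  by_contra hne
  push Not at hne
  obtain ⟨hl, hal, hbl⟩ := line_spec h hab
  have hsub : ({c, a, b} : Finset α) ⊆ line h a b ∩ S := by
    simp [insert_subset_iff, hal, hbl, hcl, ha, hb, hc]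
  have h3 : ({c, a, b} : Finset α).card = 3 :=
    card_eq_three.mpr ⟨c, a, b, hne.1, hne.2, hab, rfl⟩
  have := (card_le_card hsub).trans (hS _ hl)
  omega

theorem indep_of_card_le_two {S : Finset α} (hS : S.card ≤ 2) : Indep L S :=
  fun l _ => (card_le_card inter_subset_right).trans hS

variable [Fintype α] (hα : Fintype.card α = 21)
include hα

/-- The points completing an independent 4-set to a hyperoval. -/
theorem completion {S : Finset α} (hS4 : S.card = 4) (hS : Indep L S) :
    ∃! H : Finset α, (H.card = 6 ∧ Indep L H) ∧ S ⊆ H := by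
  classical
  set R := univ.filter fun x => x ∉ S ∧ Indep L (insert x S) with hRdef
  have hR : ∀ x, x ∈ R ↔ x ∉ S ∧ Indep L (insert x S) := fun x => by simp [hRdef]
  -- a line through exactly one point of `S` carries exactly one point of `R`
  have tangent : ∀ P ∈ S, ∀ t ∈ L, P ∈ t → (∀ Q ∈ S, Q ∈ t → Q = P) → (t ∩ R).card = 1 := by
    intro P hP t ht hPt huniq
    obtain ⟨a, b, c, hab, hac, hbc, he⟩ := card_eq_three.mp
      (by rw [card_erase_of_mem hP, hS4] : (S.erase P).card = 3)
    have hmem : ∀ y, y = a ∨ y = b ∨ y = c → y ∈ S ∧ y ≠ P := fun y hy => by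
      have : y ∈ S.erase P := by rw [he]; simpa using hy
      exact ⟨(mem_erase.mp this).2, (mem_erase.mp this).1⟩
    have hSeq : ∀ y ∈ S, y = P ∨ y = a ∨ y = b ∨ y = c := fun y hy => by
      by_cases e : y = P
      · exact Or.inl e
      · have : y ∈ S.erase P := mem_erase.mpr ⟨e, hy⟩
        rw [he] at this; simpa [e] using this
    obtain ⟨ha, haP⟩ := hmem a (by tauto)
    obtain ⟨hb, hbP⟩ := hmem b (by tauto)
    obtain ⟨hc, hcP⟩ := hmem c (by tauto)
    have hat : a ∉ t := fun e => haP (huniq a ha e)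
    have hbt : b ∉ t := fun e => hbP (huniq b hb e)
    have hct : c ∉ t := fun e => hcP (huniq c hc e)
    have point : ∀ y ∈ S, ∀ z ∈ S, y ≠ z → y ≠ P → z ≠ P → y ∉ t →
        ∃ q, q ∈ t ∧ q ≠ P ∧ t ∩ line h y z = {q} := by
      intro y hy z hz hyz hyP hzP hyt
      obtain ⟨hl, hyl, -⟩ := line_spec h hyz
      obtain ⟨q, hqt, hql⟩ := exists_inter h hα ht hl
      refine ⟨q, hqt, ?_, inter_eq_singleton h ht hl (fun e => hyt (e ▸ hyl)) hqt hql⟩
      rintro rfl
      rcases eq_of_mem_line h hS hy hz hP hyz hql with e | e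
      · exact hyP e.symm
      · exact hzP e.symm
    obtain ⟨qab, hqab, hqabP, eab⟩ := point a ha b hb hab haP hbP hat
    obtain ⟨qac, hqac, hqacP, eac⟩ := point a ha c hc hac haP hcP hat
    obtain ⟨qbc, hqbc, hqbcP, ebc⟩ := point b hb c hc hbc hbP hcP hbt
    have sing : ∀ {y z q : α}, t ∩ line h y z = {q} → ∀ x, x ∈ t → (x ∈ line h y z ↔ x = q) := by
      intro y z q e x hx
      rw [← mem_singleton (a := q), ← e, mem_inter]
      simp [hx]
    have distinct : ∀ {y z w : α}, y ∈ S → z ∈ S → w ∈ S → y ≠ z → y ≠ w → z ≠ w → y ∉ t →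
        ∀ q, q ∈ t → q ∈ line h y z → q ∈ line h y w → False := by
      intro y z w hy hz hw hyz hyw hzw hyt q hqt hq1 hq2
      have hne : line h y z ≠ line h y w := fun e => by
        rcases eq_of_mem_line h hS hy hz hw hyz (e ▸ (line_spec h hyw).2.2) with e | e
        · exact hyw e.symm
        · exact hzw e.symm
      exact hyt (eq_of_mem_mem h (line_spec h hyz).1 (line_spec h hyw).1 hne
        (line_spec h hyz).2.1 (line_spec h hyw).2.1 hq1 hq2 ▸ hqt)
    have d1 : qab ≠ qac := fun e => distinct ha hb hc hab hac hbc hat qab hqab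
      ((sing eab qab hqab).mpr rfl) ((sing eac qab hqab).mpr e)
    have d2 : qab ≠ qbc := fun e => distinct hb ha hc hab.symm hbc hac hbt qab hqab
      (line_comm h hab ▸ (sing eab qab hqab).mpr rfl) ((sing ebc qab hqab).mpr e)
    have d3 : qac ≠ qbc := fun e => distinct hc ha hb hac.symm hbc.symm hab hct qac hqac
      (line_comm h hac ▸ (sing eac qac hqac).mpr rfl)
      (line_comm h hbc ▸ (sing ebc qac hqac).mpr e)
    have throughP : ∀ y ∈ S, y ≠ P → ∀ x ∈ t, x ≠ P → x ∉ line h P y := by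
      intro y hy hyP x hx hxP hxl
      refine hxP (eq_of_mem_mem h ht (line_spec h hyP.symm).1 ?_ hx hxl hPt
        (line_spec h hyP.symm).2.1)
      intro e
      exact hyP (huniq y hy (e.symm ▸ (line_spec h hyP.symm).2.2))
    have hEq : t ∩ R = t \ {P, qab, qac, qbc} := by
      ext x
      simp only [mem_inter, mem_sdiff, mem_insert, mem_singleton, not_or, hR]
      refine and_congr_right fun hx => ?_
      constructor
      · rintro ⟨hxS, hi⟩
        have := (indep_iff_insert h hS hxS).mp hi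
        exact ⟨fun e => hxS (e ▸ hP), fun e => this a ha b hb hab ((sing eab x hx).mpr e),
          fun e => this a ha c hc hac ((sing eac x hx).mpr e),
          fun e => this b hb c hc hbc ((sing ebc x hx).mpr e)⟩
      · rintro ⟨n0, n1, n2, n3⟩
        have hxS : x ∉ S := fun e => n0 (huniq x e hx)
        refine ⟨hxS, (indep_iff_insert h hS hxS).mpr fun y hy z hz hyz hxl => ?_⟩
        rcases hSeq y hy with rfl | rfl | rfl | rfl <;> rcases hSeq z hz with rfl | rfl | rfl | rfl
        all_goals first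
          | exact hyz rfl
          | exact throughP _ hz hyz.symm x hx n0 hxl
          | exact throughP _ hy hyz x hx n0 (line_comm h hyz ▸ hxl)
          | exact n1 ((sing eab x hx).mp hxl)
          | exact n1 ((sing eab x hx).mp (line_comm h hyz ▸ hxl))
          | exact n2 ((sing eac x hx).mp hxl)
          | exact n2 ((sing eac x hx).mp (line_comm h hyz ▸ hxl))
          | exact n3 ((sing ebc x hx).mp hxl)
          | exact n3 ((sing ebc x hx).mp (line_comm h hyz ▸ hxl))
    have hsub : ({P, qab, qac, qbc} : Finset α) ⊆ t := by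
      simp [insert_subset_iff, hPt, hqab, hqac, hqbc]
    rw [hEq, card_sdiff_of_subset hsub, h.1 t ht]
    have : ({P, qab, qac, qbc} : Finset α).card = 4 := by
      simp [d1, d2, d3, hqabP.symm, hqacP.symm, hqbcP.symm]
    omega
  obtain ⟨P, hP⟩ : S.Nonempty := card_pos.mp (by omega)
  set F := univ.filter fun l => l ∈ L ∧ P ∈ l with hFdef
  have hF5 := card_lines_through h hα P F (fun l => by simp [hFdef])
  set T := F.filter fun t => ∀ Q ∈ S, Q ∈ t → Q = P with hTdef
  have hT2 : T.card = 2 := by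
    have hsec : (F.filter fun t => ¬ ∀ Q ∈ S, Q ∈ t → Q = P) = (S.erase P).image (line h P) := by
      ext t
      simp only [mem_filter, mem_image, mem_erase, hFdef, mem_univ, true_and]
      constructor
      · rintro ⟨⟨ht, hPt⟩, hn⟩
        push Not at hn
        obtain ⟨Q, hQ, hQt, hQP⟩ := hn
        exact ⟨Q, ⟨hQP, hQ⟩, line_eq h hQP.symm ht hPt hQt⟩
      · rintro ⟨Q, ⟨hQP, hQ⟩, rfl⟩
        obtain ⟨hl, hPl, hQl⟩ := line_spec h hQP.symm
        exact ⟨⟨hl, hPl⟩, fun e => hQP (e Q hQ hQl)⟩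
    have hinj : Set.InjOn (line h P) ↑(S.erase P) := by
      intro Q hQ Q' hQ' e
      rw [mem_coe, mem_erase] at hQ hQ'
      rcases eq_of_mem_line h hS hP hQ.2 hQ'.2 hQ.1.symm (e ▸ (line_spec h hQ'.1.symm).2.2)
        with e | e
      · exact absurd e hQ'.1
      · exact e.symm
    have h3 : ((S.erase P).image (line h P)).card = 3 := by
      rw [card_image_of_injOn hinj, card_erase_of_mem hP, hS4]
    have e : T.card + 3 = 5 := by
      rw [← h3, ← hsec, ← hF5, hTdef]
      exact card_filter_add_card_filter_not (s := F) _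
    omega
  have hTmem : ∀ t, t ∈ T ↔ (t ∈ L ∧ P ∈ t) ∧ ∀ Q ∈ S, Q ∈ t → Q = P := fun t => by
    simp [hTdef, hFdef]
  have hR2 : R.card = 2 := by
    have hcov : R = T.biUnion fun t => t ∩ R := by
      ext x
      simp only [mem_biUnion, mem_inter]
      refine ⟨fun hx => ?_, fun ⟨_, _, _, hx⟩ => hx⟩
      obtain ⟨hxS, hi⟩ := (hR x).mp hx
      have hPx : P ≠ x := fun e => hxS (e ▸ hP)
      obtain ⟨hl, hPl, hxl⟩ := line_spec h hPx
      refine ⟨line h P x, (hTmem _).mpr ⟨⟨hl, hPl⟩, fun Q hQ hQl => ?_⟩, hxl, hx⟩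
      by_contra hQP
      refine (indep_iff_insert h hS hxS).mp hi P hP Q hQ (Ne.symm hQP) ?_
      rwa [line_eq h (Ne.symm hQP) hl hPl hQl]
    rw [hcov, card_biUnion, sum_congr rfl fun t ht =>
      tangent P hP t ((hTmem t).mp ht).1.1 ((hTmem t).mp ht).1.2 ((hTmem t).mp ht).2]
    · simp [hT2]
    · intro t ht t' ht' hne
      refine disjoint_left.mpr fun x hx hx' => ?_
      rw [mem_inter] at hx hx'
      obtain ⟨⟨htL, hPt⟩, -⟩ := (hTmem t).mp ht
      obtain ⟨⟨htL', hPt'⟩, -⟩ := (hTmem t').mp ht'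
      exact ((hR x).mp hx.2).1 (eq_of_mem_mem h htL htL' hne hPt hPt' hx.1 hx'.1 ▸ hP)
  have hdisj : Disjoint S R := disjoint_right.mpr fun x hx => ((hR x).mp hx).1
  have hH : Indep L (S ∪ R) := by
    intro l hl
    rw [inter_union_distrib_left, card_union_of_disjoint
      (hdisj.mono inter_subset_right inter_subset_right)]
    rcases Nat.lt_or_ge (l ∩ S).card 2 with h2 | h2
    · rcases Nat.eq_zero_or_pos (l ∩ S).card with h0 | h0
      · have := card_le_card (inter_subset_right : l ∩ R ⊆ R)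
        omega
      · obtain ⟨Q, hQ⟩ := card_pos.mp h0
        rw [mem_inter] at hQ
        have := tangent Q hQ.2 l hl hQ.1 fun Q' hQ' hQ'l => by
          refine card_le_one.mp (by omega : (l ∩ S).card ≤ 1) Q' ?_ Q ?_ <;>
            simp [hQ', hQ'l, hQ.1, hQ.2]
        omega
    · have : l ∩ R = ∅ := by
        refine eq_empty_of_forall_notMem fun x hx => ?_
        obtain ⟨hxl, hxR⟩ := mem_inter.mp hx
        obtain ⟨hxS, hi⟩ := (hR x).mp hxR
        obtain ⟨y, hy, z, hz, hyz⟩ := one_lt_card.mp (by omega : 1 < (l ∩ S).card)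
        rw [mem_inter] at hy hz
        exact (indep_iff_insert h hS hxS).mp hi y hy.2 z hz.2 hyz
          (by rwa [line_eq h hyz hl hy.1 hz.1])
      rw [this]
      have := hS l hl
      simpa using this
  refine ⟨S ∪ R, ⟨⟨by rw [card_union_of_disjoint hdisj, hS4, hR2], hH⟩, subset_union_left⟩, ?_⟩
  rintro H ⟨⟨hH6, hHi⟩, hSH⟩
  refine eq_of_subset_of_card_le (fun x hx => ?_) (by rw [card_union_of_disjoint hdisj]; omega)
  by_cases hxS : x ∈ S
  · exact mem_union_left _ hxS
  · exact mem_union_right _ ((hR x).mpr ⟨hxS, hHi.mono (insert_subset hx hSH)⟩)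

end Cfsg.Agent.PlaneFour
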